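import Mathlib
import Cfsg.Prelude.Def_FusionSystem
import Cfsg.Agent.Lib.Helper26.FSGroup
import Cfsg.Agent.Lib.Helper10.PGroupBasic

set_option autoImplicit false

/-! A criterion for the fusion system of a finite group on a Sylow subgroup to be simple:
the Sylow subgroup is self-normalizing and no proper nontrivial subgroup of it is closed under
fusion. -/

namespace Cfsg.Agent.Lib.Helper3.Fus

open Cfsg Cfsg.FusionSystem Cfsg.Agent.Lib.Helper26

variable {G : Type*} [Group G]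

/-- `T ≤ S` is closed under `G`-fusion in `S`. -/
def FClosed (S T : Subgroup G) : Prop :=
  ∀ x ∈ T, ∀ g : G, g * x * g⁻¹ ∈ S → g * x * g⁻¹ ∈ T

theorem fclosed_of_stronglyClosed {S T : Subgroup G}
    (h : (groupFusionSystem S).StronglyClosed T) : FClosed S T := by
  intro x hx g hg
  obtain ⟨hTS, hcl⟩ := h
  have hR : Subgroup.zpowers x ≤ T := by
    rw [Subgroup.zpowers_le]; exact hx
  have hmap : (Subgroup.zpowers x).map (MulAut.conj g).toMonoidHom ≤ S := by
    rintro _ ⟨y, hy, rfl⟩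
    obtain ⟨k, rfl⟩ := Subgroup.mem_zpowers_iff.mp hy
    have : (MulAut.conj g).toMonoidHom (x ^ k) = (g * x * g⁻¹) ^ k := by
      rw [map_zpow]; rfl
    rw [this]
    exact S.zpow_mem hg k
  have := hcl _ hR (conjHom _ g) (conjHom_mem_groupFS (hR.trans hTS) hmap)
    ⟨x, Subgroup.mem_zpowers x⟩
  exact this

/-- the criterion for one Sylow subgroup -/
theorem isSimple_of [Finite G] {p : ℕ} [Fact p.Prime] (S : Sylow p G)
    (h1 : (S : Subgroup G) ≠ ⊥)
    (h2 : Subgroup.normalizer ((S : Subgroup G) : Set G) ≤ S)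
    (h3 : ∀ T : Subgroup G, T ≤ S → T ≠ ⊥ → FClosed (S : Subgroup G) T → T = S) :
    (groupFusionSystem (S : Subgroup G)).IsSimple p := by
  refine ⟨groupFS_saturated S, h1, ?_⟩
  intro T E hE
  obtain ⟨⟨-, -, hsub, hsc, -, hfrat⟩, -⟩ := hE
  by_cases hT : T = ⊥
  · exact Or.inl hT
  right
  have hTS : T = S := h3 T hsc.1 hT (fclosed_of_stronglyClosed hsc)
  subst hTS
  refine ⟨rfl, fun P => Set.Subset.antisymm (hsub P) ?_⟩
  intro φ hφ
  have hP : P ≤ (S : Subgroup G) := hφ.1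
  obtain ⟨α, hα, φ₀, hφ₀, hcomp⟩ := hfrat P hP φ hφ
  rw [mem_autGroup_iff _ le_rfl, mem_groupFS_hom] at hα
  obtain ⟨-, -, g, hg⟩ := hα
  have hgN : g ∈ Subgroup.normalizer ((S : Subgroup G) : Set G) := by
    apply Subgroup.mem_normalizer_fintype
    intro n hn
    have := hg ⟨n, hn⟩
    have h' : g * n * g⁻¹ = ((α ⟨n, hn⟩ : (S : Subgroup G)) : G) := this.symm
    rw [h']
    exact (α ⟨n, hn⟩).2
  have hgS : g ∈ (S : Subgroup G) := h2 hgN
  have hφ₀S : ∀ x : P, φ₀ x ∈ (S : Subgroup G) := (E.le_of_mem hφ₀).2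
  have hc := E.comp_mem hφ₀ (E.conj_mem (P := (S : Subgroup G)) le_rfl hgS) hφ₀S
  have : φ = (conjHom (S : Subgroup G) g).comp (φ₀.codRestrict (S : Subgroup G) hφ₀S) := by
    ext x
    rw [hcomp x (hφ₀S x)]
    have := hg ⟨φ₀ x, hφ₀S x⟩
    exact this
  rw [this]
  exact hc

/-- transport of the criterion along conjugation: it is enough to check one subgroup of the
right order -/
theorem isSimple_of_subgroup [Finite G] {p : ℕ} [Fact p.Prime] (S₀ : Subgroup G)
    (hcard : Nat.card S₀ = p ^ (Nat.card G).factorization p)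
    (h1 : S₀ ≠ ⊥)
    (h2 : Subgroup.normalizer (S₀ : Set G) ≤ S₀)
    (h3 : ∀ T : Subgroup G, T ≤ S₀ → T ≠ ⊥ → FClosed S₀ T → T = S₀)
    (S : Sylow p G) : (groupFusionSystem (S : Subgroup G)).IsSimple p := by
  let P₀ : Sylow p G := Sylow.ofCard S₀ hcard
  obtain ⟨g, hg⟩ := MulAction.exists_smul_eq G P₀ S
  have hS : (S : Subgroup G) = S₀.map (MulAut.conj g).toMonoidHom := by
    rw [← hg]
    show (g • P₀ : Sylow p G).toSubgroup = _
    rw [Sylow.coe_subgroup_smul]
    rfl
  have hmem : ∀ x : G, x ∈ (S : Subgroup G) ↔ g⁻¹ * x * g ∈ S₀ := by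
    intro x
    rw [hS]
    constructor
    · rintro ⟨y, hy, rfl⟩
      have : g⁻¹ * ((MulAut.conj g).toMonoidHom y) * g = y := by
        show g⁻¹ * (g * y * g⁻¹) * g = y
        group
      rw [this]; exact hy
    · intro h
      refine ⟨g⁻¹ * x * g, h, ?_⟩
      show g * (g⁻¹ * x * g) * g⁻¹ = x
      group
  apply isSimple_of S
  · intro hbot
    apply h1
    rw [Subgroup.eq_bot_iff_forall] at hbot ⊢
    intro x hx
    have : g * x * g⁻¹ ∈ (S : Subgroup G) := by
      rw [hmem]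
      have : g⁻¹ * (g * x * g⁻¹) * g = x := by group
      rw [this]; exact hx
    have := hbot _ this
    have h' : x = g⁻¹ * (g * x * g⁻¹) * g := by group
    rw [h', this]; group
  · intro n hn
    rw [hmem]
    apply h2
    rw [Subgroup.mem_normalizer_iff] at hn ⊢
    intro y
    have := hn (g * y * g⁻¹)
    rw [hmem, hmem] at this
    have e1 : g⁻¹ * (g * y * g⁻¹) * g = y := by group
    have e2 : g⁻¹ * (n * (g * y * g⁻¹) * n⁻¹) * g = g⁻¹ * n * g * y * (g⁻¹ * n * g)⁻¹ := by group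
    rw [e1, e2] at this
    exact this
  · intro T hT hTne hcl
    let T₀ : Subgroup G := T.comap (MulAut.conj g).toMonoidHom
    have hT₀mem : ∀ x, x ∈ T₀ ↔ g * x * g⁻¹ ∈ T := fun x => Iff.rfl
    have hT₀ : T₀ ≤ S₀ := by
      intro x hx
      have := (hmem _).mp (hT ((hT₀mem x).mp hx))
      have e : g⁻¹ * (g * x * g⁻¹) * g = x := by group
      rwa [e] at this
    have hT₀ne : T₀ ≠ ⊥ := by
      intro hbot
      apply hTne
      rw [Subgroup.eq_bot_iff_forall] at hbot ⊢
      intro x hx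
      have : g⁻¹ * x * g ∈ T₀ := by
        rw [hT₀mem]
        have e : g * (g⁻¹ * x * g) * g⁻¹ = x := by group
        rw [e]; exact hx
      have := hbot _ this
      have h' : x = g * (g⁻¹ * x * g) * g⁻¹ := by group
      rw [h', this]; group
    have hcl₀ : FClosed S₀ T₀ := by
      intro x hx k hk
      rw [hT₀mem] at hx ⊢
      have := hcl _ hx (g * k * g⁻¹) (by
        rw [hmem]
        have e : g⁻¹ * (g * k * g⁻¹ * (g * x * g⁻¹) * (g * k * g⁻¹)⁻¹) * g = k * x * k⁻¹ := by group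
        rw [e]; exact hk)
      have e : g * k * g⁻¹ * (g * x * g⁻¹) * (g * k * g⁻¹)⁻¹ = g * (k * x * k⁻¹) * g⁻¹ := by group
      rwa [e] at this
    have hEq := h3 T₀ hT₀ hT₀ne hcl₀
    apply le_antisymm hT
    intro x hx
    have := (hmem x).mp hx
    rw [← hEq, hT₀mem] at this
    have e : g * (g⁻¹ * x * g) * g⁻¹ = x := by group
    rwa [e] at this

end Cfsg.Agent.Lib.Helper3.Fus
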