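import Mathlib
import Cfsg.Prelude.Def_Sporadic_a
import Cfsg.Agent.Lib.Helper3.Golay.NPerm

set_option autoImplicit false

/-! Canonical number codes of permutations of the 24 points, lists of all products of a
polycyclic generating sequence, and straight-line programs producing fused elements. -/

namespace Cfsg.Agent.Lib.Helper3.Fus

open Cfsg Cfsg.Agent.Lib.Helper3.Golay

theorem packN_congr {f g : ℕ → ℕ} {k : ℕ} (h : ∀ i < k, f i = g i) : packN f k = packN g k := by
  induction k with
  | zero => rfl
  | succ k ih =>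
    rw [packN_succ, packN_succ, ih (fun i hi => h i (Nat.lt_succ_of_lt hi)),
      h k (Nat.lt_succ_self k)]

/-- the canonical code of a permutation -/
def codeOf (σ : Equiv.Perm GolayPt) : ℕ := packN (fun i => idx (σ (pt i))) 24

theorem hasN_codeOf (σ : Equiv.Perm GolayPt) : HasN σ (codeOf σ) := by
  intro i hi
  unfold codeOf
  rw [lookN_packN (fun j _ => by have := idx_lt (σ (pt j)); omega) hi]

theorem codeOf_injective : Function.Injective codeOf := by
  intro σ τ h
  exact HasN.ext (hasN_codeOf σ) (h ▸ hasN_codeOf τ)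

theorem codeOf_one : codeOf 1 = idN := by
  unfold codeOf idN
  apply packN_congr
  intro i hi
  rw [Equiv.Perm.one_apply, idx_pt hi]

theorem codeOf_mul (σ τ : Equiv.Perm GolayPt) :
    codeOf (σ * τ) = compN (codeOf σ) (codeOf τ) := by
  unfold compN
  show packN (fun i => idx ((σ * τ) (pt i))) 24 = _
  apply packN_congr
  intro i hi
  rw [← hasN_codeOf τ i hi, ← hasN_codeOf σ _ (idx_lt _), pt_idx, Equiv.Perm.mul_apply]

theorem codeOf_of_hasTbl {σ : Equiv.Perm GolayPt} {T : List ℕ} (h : HasTbl σ T) :
    codeOf σ = encL T := by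
  unfold codeOf encL
  apply packN_congr
  intro i hi
  exact h.2 i hi

theorem codeOf_conj (g x : Equiv.Perm GolayPt) :
    codeOf (g * x * g⁻¹) = compN (compN (codeOf g) (codeOf x)) (codeOf g⁻¹) := by
  rw [codeOf_mul, codeOf_mul]

theorem apply_of_codeOf (σ : Equiv.Perm GolayPt) {i : ℕ} (hi : i < 24) :
    σ (pt i) = pt (lookN (codeOf σ) i) := (hasN_codeOf σ).apply hi

/-! ### cheap list primitives for kernel evaluation -/

/-- membership test using `Nat.beq` only; written with the recursor, which the kernel unfolds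
cheaply -/
def memB (n : ℕ) (l : List ℕ) : Bool :=
  List.rec false (fun a _ ih => cond (Nat.beq n a) true ih) l

theorem memB_nil (n : ℕ) : memB n [] = false := rfl

theorem memB_cons (n a : ℕ) (l : List ℕ) :
    memB n (a :: l) = cond (Nat.beq n a) true (memB n l) := rfl

theorem memB_iff {n : ℕ} : ∀ {l : List ℕ}, memB n l = true ↔ n ∈ l
  | [] => by simp [memB_nil]
  | a :: l => by
    rw [memB_cons]
    by_cases h : Nat.beq n a = true
    · rw [h]
      have := Nat.eq_of_beq_eq_true h
      simp [this]
    · rw [Bool.not_eq_true] at h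
      rw [h]
      have hne : n ≠ a := by
        intro he
        rw [he, Nat.beq_refl] at h
        exact Bool.noConfusion h
      simp only [cond_false, List.mem_cons, hne, false_or]
      exact memB_iff

/-- duplicate-free test -/
def nodupB (l : List ℕ) : Bool :=
  List.rec true (fun a t ih => cond (memB a t) false ih) l

theorem nodupB_cons (a : ℕ) (l : List ℕ) :
    nodupB (a :: l) = cond (memB a l) false (nodupB l) := rfl

theorem nodupB_sound : ∀ {l : List ℕ}, nodupB l = true → l.Nodup
  | [], _ => List.nodup_nil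
  | a :: l, h => by
    rw [nodupB_cons] at h
    rw [List.nodup_cons]
    by_cases hm : memB a l = true
    · rw [hm] at h
      exact Bool.noConfusion h
    · rw [Bool.not_eq_true] at hm
      rw [hm] at h
      refine ⟨?_, nodupB_sound h⟩
      intro hmem
      rw [← memB_iff, hm] at hmem
      exact Bool.noConfusion hmem

/-- list equality test -/
def eqB (l : List ℕ) : List ℕ → Bool :=
  List.rec (fun m => List.rec true (fun _ _ _ => false) m)
    (fun a _ ih m => List.rec false (fun b t _ => cond (Nat.beq a b) (ih t) false) m) l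

theorem eqB_nil_nil : eqB [] [] = true := rfl
theorem eqB_nil_cons (b : ℕ) (m : List ℕ) : eqB [] (b :: m) = false := rfl
theorem eqB_cons_nil (a : ℕ) (l : List ℕ) : eqB (a :: l) [] = false := rfl
theorem eqB_cons_cons (a b : ℕ) (l m : List ℕ) :
    eqB (a :: l) (b :: m) = cond (Nat.beq a b) (eqB l m) false := rfl

theorem eqB_sound : ∀ {l m : List ℕ}, eqB l m = true → l = m
  | [], [], _ => rfl
  | [], b :: m, h => by rw [eqB_nil_cons] at h; exact Bool.noConfusion h
  | a :: l, [], h => by rw [eqB_cons_nil] at h; exact Bool.noConfusion h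
  | a :: l, b :: m, h => by
    rw [eqB_cons_cons] at h
    by_cases hab : Nat.beq a b = true
    · rw [hab] at h
      rw [Nat.eq_of_beq_eq_true hab, eqB_sound h]
    · rw [Bool.not_eq_true] at hab
      rw [hab] at h
      exact Bool.noConfusion h

/-- evaluate the number before applying the function -/
def strictN {α : Sort*} (n : ℕ) (f : ℕ → α) : α := Nat.rec (f 0) (fun k _ => f (k + 1)) n

theorem strictN_eq {α : Sort*} (n : ℕ) (f : ℕ → α) : strictN n f = f n := by
  cases n <;> rfl

/-! ### all products of a polycyclic sequence -/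

/-- all products `u₁^{e₁} ⋯ u_k^{e_k}` with exponents 0 or 1 -/
def prods : List ℕ → List ℕ
  | [] => [idN]
  | u :: us => prods us ++ (prods us).map (compN u)

theorem prods_length : ∀ us : List ℕ, (prods us).length = 2 ^ us.length
  | [] => rfl
  | u :: us => by
    simp only [prods, List.length_append, List.length_map, prods_length us, List.length_cons,
      pow_succ]
    ring

theorem prods_sound (K : Subgroup (Equiv.Perm GolayPt)) :
    ∀ vs : List ℕ, (∀ v ∈ vs, ∃ σ ∈ K, codeOf σ = v) → ∀ n ∈ prods vs, ∃ σ ∈ K, codeOf σ = n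
  | [], _, n, hn => by
    simp only [prods, List.mem_singleton] at hn
    exact ⟨1, K.one_mem, by rw [hn, codeOf_one]⟩
  | u :: us, h, n, hn => by
    simp only [prods, List.mem_append, List.mem_map] at hn
    have ih := prods_sound K us (fun v hv => h v (List.mem_cons_of_mem _ hv))
    rcases hn with hn | ⟨m, hm, rfl⟩
    · exact ih n hn
    · obtain ⟨τ, hτ, rfl⟩ := ih m hm
      obtain ⟨σ, hσ, rfl⟩ := h u List.mem_cons_self
      exact ⟨σ * τ, K.mul_mem hσ hτ, codeOf_mul σ τ⟩

/-- check that `L` is the list of all products -/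
def prodsOK : List ℕ → List ℕ → Bool
  | [], L => eqB L [idN]
  | u :: us, L =>
    prodsOK us (L.take (L.length / 2)) &&
      eqB (L.drop (L.length / 2)) ((L.take (L.length / 2)).map (compN u))

theorem prodsOK_sound : ∀ {us L : List ℕ}, prodsOK us L = true → prods us = L
  | [], L, h => by
    unfold prodsOK at h
    rw [eqB_sound h]; rfl
  | u :: us, L, h => by
    unfold prodsOK at h
    rw [Bool.and_eq_true] at h
    have h1 := prodsOK_sound h.1
    have h2 := eqB_sound h.2
    unfold prods
    rw [h1, ← h2, List.take_append_drop]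

/-! ### tables -/

/-- each table is the table of an element of `H`, and its computed inverse table is that of the
inverse -/
def TSound (H : Subgroup (Equiv.Perm GolayPt)) (Ts : List (List ℕ)) : Prop :=
  ∀ T ∈ Ts, ∃ σ ∈ H, HasTbl σ T ∧ HasTbl σ⁻¹ (invT T)

/-- codes of a table and of its inverse -/
def pairOf (T : List ℕ) : ℕ × ℕ := (encL T, encL (invT T))

/-- the pairs are codes of an element of `H` and of its inverse -/
def CSound (H : Subgroup (Equiv.Perm GolayPt)) (cs : List (ℕ × ℕ)) : Prop :=
  ∀ q ∈ cs, ∃ g ∈ H, codeOf g = q.1 ∧ codeOf g⁻¹ = q.2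

theorem TSound.csound {H : Subgroup (Equiv.Perm GolayPt)} {Ts : List (List ℕ)} (h : TSound H Ts) :
    CSound H (Ts.map pairOf) := by
  intro q hq
  rw [List.mem_map] at hq
  obtain ⟨T, hT, rfl⟩ := hq
  obtain ⟨σ, hσ, h1, h2⟩ := h T hT
  exact ⟨σ, hσ, codeOf_of_hasTbl h1, codeOf_of_hasTbl h2⟩

theorem TSound.codes {H : Subgroup (Equiv.Perm GolayPt)} {Ts : List (List ℕ)} (h : TSound H Ts) :
    ∀ u ∈ Ts.map encL, ∃ σ ∈ H, codeOf σ = u := by
  intro u hu
  rw [List.mem_map] at hu
  obtain ⟨T, hT, rfl⟩ := hu
  obtain ⟨σ, hσ, h1, -⟩ := h T hT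
  exact ⟨σ, hσ, codeOf_of_hasTbl h1⟩

/-! ### fusion programs -/

/-- instructions: multiply two earlier entries, or conjugate an earlier entry -/
inductive FIns where
  | mul (i j : ℕ)
  | fus (c i : ℕ)

/-- one step: a conjugate is only appended when its code passes the test `mem` -/
def fstep (mem : ℕ → Bool) (cs : List (ℕ × ℕ)) (acc : List ℕ) : FIns → List ℕ
  | .mul i j =>
    match acc[i]?, acc[j]? with
    | some a, some b => strictN (compN a b) (fun y => acc ++ [y])
    | _, _ => acc
  | .fus c i =>
    match cs[c]?, acc[i]? with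
    | some q, some a =>
      strictN (compN (compN q.1 a) q.2) (fun y => cond (mem y) (acc ++ [y]) acc)
    | _, _ => acc

/-- run a fusion program from the code `z` -/
def frun (mem : ℕ → Bool) (cs : List (ℕ × ℕ)) (z : ℕ) (prog : List FIns) : List ℕ :=
  prog.foldl (fstep mem cs) [z]

theorem fstep_sound {H S T : Subgroup (Equiv.Perm GolayPt)} {mem : ℕ → Bool} {cs : List (ℕ × ℕ)}
    (hcs : CSound H cs) (hL : ∀ n, mem n = true → ∃ σ ∈ S, codeOf σ = n)
    (hcl : ∀ x ∈ T, ∀ g ∈ H, g * x * g⁻¹ ∈ S → g * x * g⁻¹ ∈ T)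
    {acc : List ℕ} (hacc : ∀ n ∈ acc, ∃ σ ∈ T, codeOf σ = n) (ins : FIns) :
    ∀ n ∈ fstep mem cs acc ins, ∃ σ ∈ T, codeOf σ = n := by
  cases ins with
  | mul i j =>
    simp only [fstep]
    split
    · rename_i a b hi hj
      rw [strictN_eq]
      intro n hn
      rw [List.mem_append, List.mem_singleton] at hn
      rcases hn with hn | rfl
      · exact hacc n hn
      · obtain ⟨σ, hσ, rfl⟩ := hacc a (List.mem_of_getElem? hi)
        obtain ⟨τ, hτ, rfl⟩ := hacc b (List.mem_of_getElem? hj)
        exact ⟨σ * τ, T.mul_mem hσ hτ, codeOf_mul σ τ⟩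
    · exact hacc
  | fus c i =>
    simp only [fstep]
    split
    · rename_i q a hc hi
      rw [strictN_eq]
      by_cases hmem : mem (compN (compN q.1 a) q.2) = true
      · rw [hmem, cond_true]
        intro n hn
        rw [List.mem_append, List.mem_singleton] at hn
        rcases hn with hn | rfl
        · exact hacc n hn
        · obtain ⟨g, hg, hg1, hg2⟩ := hcs q (List.mem_of_getElem? hc)
          obtain ⟨x, hx, rfl⟩ := hacc a (List.mem_of_getElem? hi)
          obtain ⟨σ, hσ, hσc⟩ := hL _ hmem
          have hconj : codeOf (g * x * g⁻¹) = compN (compN q.1 (codeOf x)) q.2 := by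
            rw [codeOf_conj, hg1, hg2]
          have : σ = g * x * g⁻¹ := codeOf_injective (hσc.trans hconj.symm)
          exact ⟨g * x * g⁻¹, hcl x hx g hg (this ▸ hσ), hconj⟩
      · rw [Bool.not_eq_true] at hmem
        rw [hmem, cond_false]
        exact hacc
    · exact hacc

theorem frun_sound {H S T : Subgroup (Equiv.Perm GolayPt)} {mem : ℕ → Bool} {cs : List (ℕ × ℕ)}
    (hcs : CSound H cs) (hL : ∀ n, mem n = true → ∃ σ ∈ S, codeOf σ = n)
    (hcl : ∀ x ∈ T, ∀ g ∈ H, g * x * g⁻¹ ∈ S → g * x * g⁻¹ ∈ T)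
    {z : ℕ} (hz : ∃ σ ∈ T, codeOf σ = z) (prog : List FIns) :
    ∀ n ∈ frun mem cs z prog, ∃ σ ∈ T, codeOf σ = n := by
  unfold frun
  have key : ∀ (prog : List FIns) (acc : List ℕ), (∀ n ∈ acc, ∃ σ ∈ T, codeOf σ = n) →
      ∀ n ∈ prog.foldl (fstep mem cs) acc, ∃ σ ∈ T, codeOf σ = n := by
    intro prog
    induction prog with
    | nil => intro acc h; simpa using h
    | cons ins prog ih =>
      intro acc h
      rw [List.foldl_cons]
      exact ih _ (fstep_sound hcs hL hcl h ins)
  apply key
  intro n hn
  rw [List.mem_singleton] at hn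
  rw [hn]; exact hz

/-! ### class programs -/

/-- one step: conjugate the entry number `p` (counted from the start of the program) by the
generator `a`; the accumulator is kept in reverse order together with its length -/
def cstep (hs : List (ℕ × ℕ)) (st : List ℕ × ℕ) (ins : ℕ × ℕ) : List ℕ × ℕ :=
  match hs[ins.1]?, st.1[st.2 - 1 - ins.2]? with
  | some q, some x => strictN (compN (compN q.1 x) q.2) (fun y => (y :: st.1, st.2 + 1))
  | _, _ => st

/-- run a class program from the code `z`; the result is in reverse order -/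
def crun (hs : List (ℕ × ℕ)) (z : ℕ) (prog : List (ℕ × ℕ)) : List ℕ :=
  (prog.foldl (cstep hs) ([z], 1)).1

theorem crun_sound {H : Subgroup (Equiv.Perm GolayPt)} {hs : List (ℕ × ℕ)} (hhs : CSound H hs)
    (z₀ : Equiv.Perm GolayPt) (prog : List (ℕ × ℕ)) :
    ∀ n ∈ crun hs (codeOf z₀) prog, ∃ g ∈ H, codeOf (g * z₀ * g⁻¹) = n := by
  unfold crun
  have key : ∀ (prog : List (ℕ × ℕ)) (st : List ℕ × ℕ),
      (∀ n ∈ st.1, ∃ g ∈ H, codeOf (g * z₀ * g⁻¹) = n) →
      ∀ n ∈ (prog.foldl (cstep hs) st).1, ∃ g ∈ H, codeOf (g * z₀ * g⁻¹) = n := by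
    intro prog
    induction prog with
    | nil => intro st h; simpa using h
    | cons ins prog ih =>
      intro st h
      rw [List.foldl_cons]
      apply ih
      unfold cstep
      split
      · rename_i q x hc hi
        rw [strictN_eq]
        intro n hn
        rw [List.mem_cons] at hn
        rcases hn with rfl | hn
        · obtain ⟨k, hk, hk1, hk2⟩ := hhs q (List.mem_of_getElem? hc)
          obtain ⟨g, hg, rfl⟩ := h x (List.mem_of_getElem? hi)
          refine ⟨k * g, H.mul_mem hk hg, ?_⟩
          have : k * g * z₀ * (k * g)⁻¹ = k * (g * z₀ * g⁻¹) * k⁻¹ := by group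
          rw [this, codeOf_conj, hk1, hk2]
        · exact h n hn
      · exact h
  apply key
  intro n hn
  rw [List.mem_singleton] at hn
  exact ⟨1, H.one_mem, by rw [hn]; simp⟩

end Cfsg.Agent.Lib.Helper3.Fus
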