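import Mathlib
import Cfsg.Prelude.Def_Sporadic_a
import Cfsg.Agent.Lib.Helper3.Fus.Code
import Cfsg.Agent.Lib.Helper3.Fus.Simple
import Cfsg.Agent.Lib.Helper10.PGroupBasic

set_option autoImplicit false

/-! Certificates for a Sylow 2-subgroup of a permutation group on the 24 points: element list,
centre, fusion chain. -/

namespace Cfsg.Agent.Lib.Helper3.Fus

open Cfsg Cfsg.Agent.Lib.Helper3.Golay

/-- data and checks for a 2-subgroup generated by a polycyclic sequence -/
structure SylCert (H : Subgroup (Equiv.Perm GolayPt)) where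
  /-- codes of the polycyclic generators -/
  us : List ℕ
  /-- the list of all elements -/
  L : List ℕ
  /-- a membership test for the list -/
  memL : ℕ → Bool
  /-- the code of the central involution -/
  z : ℕ
  /-- conjugators -/
  cs : List (ℕ × ℕ)
  /-- the fusion program -/
  prog : List FIns
  hus : ∀ u ∈ us, ∃ σ ∈ H, codeOf σ = u
  hcs : CSound H cs
  hL : prods us = L
  hz : z ∈ us
  hmemL : ∀ n, memL n = true → n ∈ L
  closedOK : us.all (fun u => L.all (fun n => memL (compN u n))) = true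
  nodup : L.Nodup
  centerOK : L.all (fun n => !(us.all (fun u => Nat.beq (compN n u) (compN u n))) ||
    Nat.beq n idN || Nat.beq n z) = true
  fusOK : us.all (fun u => memB u (frun memL cs z prog)) = true

namespace SylCert

variable {H : Subgroup (Equiv.Perm GolayPt)} (D : SylCert H)

/-- the subgroup generated by the sequence -/
def S : Subgroup (Equiv.Perm GolayPt) :=
  Subgroup.closure {σ | σ ∈ H ∧ codeOf σ ∈ D.us}

theorem S_le : D.S ≤ H := by
  unfold S
  rw [Subgroup.closure_le]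
  intro σ hσ
  exact hσ.1

theorem of_mem_us {u : ℕ} (hu : u ∈ D.us) : ∃ σ ∈ D.S, codeOf σ = u := by
  obtain ⟨σ, hσ, rfl⟩ := D.hus u hu
  exact ⟨σ, Subgroup.subset_closure ⟨hσ, hu⟩, rfl⟩

theorem of_mem_L {n : ℕ} (hn : n ∈ D.L) : ∃ σ ∈ D.S, codeOf σ = n := by
  rw [← D.hL] at hn
  exact prods_sound D.S D.us (fun v hv => D.of_mem_us hv) n hn

theorem idN_mem_L : idN ∈ D.L := by
  rw [← D.hL]
  have : ∀ us : List ℕ, idN ∈ prods us := by
    intro us
    induction us with
    | nil => simp [prods]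
    | cons u us ih => simp only [prods, List.mem_append]; exact Or.inl ih
  exact this _

theorem mem_L {σ : Equiv.Perm GolayPt} (hσ : σ ∈ D.S) : codeOf σ ∈ D.L := by
  have key : ∀ σ ∈ Submonoid.closure {σ : Equiv.Perm GolayPt | σ ∈ H ∧ codeOf σ ∈ D.us},
      codeOf σ ∈ D.L := by
    intro σ h2
    induction h2 using Submonoid.closure_induction_left with
    | one => rw [codeOf_one]; exact D.idN_mem_L
    | mul_left x hx y _ ih =>
      have h := D.closedOK
      rw [List.all_eq_true] at h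
      have h' := h _ hx.2
      rw [List.all_eq_true] at h'
      have h'' := h' _ ih
      rw [codeOf_mul]
      exact D.hmemL _ h''
  apply key
  have h2 : σ ∈ (Subgroup.closure {σ | σ ∈ H ∧ codeOf σ ∈ D.us}).toSubmonoid := hσ
  rwa [Subgroup.closure_toSubmonoid_of_finite] at h2

theorem card : Nat.card D.S = 2 ^ D.us.length := by
  have e : D.S ≃ {n // n ∈ D.L} :=
    Equiv.ofBijective (fun σ => ⟨codeOf σ.1, D.mem_L σ.2⟩) ⟨by
      intro σ τ h
      exact Subtype.ext (codeOf_injective (congrArg Subtype.val h)), by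
      rintro ⟨n, hn⟩
      obtain ⟨σ, hσ, rfl⟩ := D.of_mem_L hn
      exact ⟨⟨σ, hσ⟩, rfl⟩⟩
  rw [Nat.card_congr e, Nat.card_eq_fintype_card, Fintype.card_of_subtype D.L.toFinset (by simp),
    List.toFinset_card_of_nodup D.nodup, ← D.hL, prods_length]

/-- the central involution -/
theorem exists_z : ∃ z₀ ∈ D.S, codeOf z₀ = D.z := D.of_mem_us D.hz

theorem center {σ : Equiv.Perm GolayPt} (hσ : σ ∈ D.S) (hc : ∀ τ ∈ D.S, σ * τ = τ * σ) :
    σ = 1 ∨ codeOf σ = D.z := by
  have h := D.centerOK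
  rw [List.all_eq_true] at h
  have h' := h _ (D.mem_L hσ)
  rw [Bool.or_eq_true, Bool.or_eq_true] at h'
  rcases h' with (h' | h') | h'
  · exfalso
    rw [Bool.not_eq_true'] at h'
    have : (D.us.all fun u => Nat.beq (compN (codeOf σ) u) (compN u (codeOf σ))) = true := by
      rw [List.all_eq_true]
      intro u hu
      obtain ⟨τ, hτ, rfl⟩ := D.of_mem_us hu
      rw [← codeOf_mul, ← codeOf_mul, hc τ hτ]
      exact Nat.beq_refl _
    rw [this] at h'
    exact Bool.noConfusion h'
  · left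
    have := Nat.eq_of_beq_eq_true h'
    rw [← codeOf_one] at this
    exact codeOf_injective this
  · right
    exact Nat.eq_of_beq_eq_true h'

theorem isPGroup : IsPGroup 2 D.S := IsPGroup.of_card D.card

/-- a nontrivial subgroup closed under fusion is everything -/
theorem fus (T : Subgroup (Equiv.Perm GolayPt)) (hT : T ≤ D.S) (hne : T ≠ ⊥)
    (hcl : ∀ x ∈ T, ∀ g ∈ H, g * x * g⁻¹ ∈ D.S → g * x * g⁻¹ ∈ T) : D.S ≤ T := by
  have : Fact (Nat.Prime 2) := ⟨Nat.prime_two⟩
  -- `T` is normal in `S`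
  have hnorm : (T.subgroupOf D.S).Normal := by
    constructor
    intro n hn g
    rw [Subgroup.mem_subgroupOf] at hn ⊢
    have h1 : ((g * n * g⁻¹ : D.S) : Equiv.Perm GolayPt) = (g : Equiv.Perm GolayPt) * n * (g : Equiv.Perm GolayPt)⁻¹ := by
      simp
    rw [h1]
    apply hcl _ hn _ (D.S_le g.2)
    rw [← h1]
    exact (g * n * g⁻¹).2
  have hne' : T.subgroupOf D.S ≠ ⊥ := by
    intro hbot
    apply hne
    rw [Subgroup.eq_bot_iff_forall] at hbot ⊢
    intro x hx
    have := hbot ⟨x, hT hx⟩ (by rw [Subgroup.mem_subgroupOf]; exact hx)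
    exact congrArg Subtype.val this
  obtain ⟨x, hxT, hxc, hx1⟩ :=
    Cfsg.Agent.Lib.Helper10.exists_mem_center_of_normal_ne_bot 2 D.isPGroup (T.subgroupOf D.S) hne'
  rw [Subgroup.mem_subgroupOf] at hxT
  -- the central involution lies in `T`
  have hz : ∃ σ ∈ T, codeOf σ = D.z := by
    refine ⟨x, hxT, ?_⟩
    rcases D.center x.2 (fun τ hτ => by
      have := Subgroup.mem_center_iff.mp hxc ⟨τ, hτ⟩
      exact (congrArg Subtype.val this).symm) with h | h
    · exfalso
      apply hx1
      exact Subtype.ext h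
    · exact h
  have hall := frun_sound D.hcs (fun n hn => D.of_mem_L (D.hmemL n hn)) hcl hz D.prog
  have hf := D.fusOK
  rw [List.all_eq_true] at hf
  unfold S
  rw [Subgroup.closure_le]
  intro σ hσ
  have h1 := hf _ hσ.2
  have h2 : codeOf σ ∈ frun D.memL D.cs D.z D.prog := memB_iff.mp h1
  obtain ⟨τ, hτ, hτc⟩ := hall _ h2
  have : τ = σ := codeOf_injective hτc
  rw [← this]
  exact hτ

end SylCert

/-! ### from permutations to the subtype -/

section Bridge

variable {H S : Subgroup (Equiv.Perm GolayPt)}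

theorem normalizer_subgroupOf_le (hSH : S ≤ H)
    (hnorm : ∀ n ∈ H, (∀ y, y ∈ S ↔ n * y * n⁻¹ ∈ S) → n ∈ S) :
    Subgroup.normalizer ((S.subgroupOf H : Subgroup H) : Set H) ≤ S.subgroupOf H := by
  intro n hn
  rw [Subgroup.mem_subgroupOf]
  apply hnorm _ n.2
  intro y
  rw [Subgroup.mem_normalizer_iff] at hn
  constructor
  · intro hy
    have := (hn ⟨y, hSH hy⟩).mp (by rw [Subgroup.mem_subgroupOf]; exact hy)
    rw [Subgroup.mem_subgroupOf] at this
    simpa using this
  · intro hy
    have hyH : y ∈ H := by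
      have h1 : (n : Equiv.Perm GolayPt) * y * (n : Equiv.Perm GolayPt)⁻¹ ∈ H := hSH hy
      have h2 := H.mul_mem (H.mul_mem (H.inv_mem n.2) h1) n.2
      have e : (n : Equiv.Perm GolayPt)⁻¹ * ((n : Equiv.Perm GolayPt) * y * (n : Equiv.Perm GolayPt)⁻¹) * n = y := by
        group
      rwa [e] at h2
    have := (hn ⟨y, hyH⟩).mpr (by rw [Subgroup.mem_subgroupOf]; simpa using hy)
    rw [Subgroup.mem_subgroupOf] at this
    exact this

theorem of_normalizer_subgroupOf_le
    (hnorm : Subgroup.normalizer ((S.subgroupOf H : Subgroup H) : Set H) ≤ S.subgroupOf H) :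
    ∀ n ∈ H, (∀ y, y ∈ S ↔ n * y * n⁻¹ ∈ S) → n ∈ S := by
  intro n hn h
  have : (⟨n, hn⟩ : H) ∈ Subgroup.normalizer ((S.subgroupOf H : Subgroup H) : Set H) := by
    rw [Subgroup.mem_normalizer_iff]
    intro y
    rw [Subgroup.mem_subgroupOf, Subgroup.mem_subgroupOf]
    have := h y
    simpa using this
  have := hnorm this
  rw [Subgroup.mem_subgroupOf] at this
  exact this

theorem isSimple_of_perm (hSH : S ≤ H) {k : ℕ} (hk : Nat.card S = 2 ^ k) (hk0 : k ≠ 0)
    (hfac : (Nat.card H).factorization 2 = k)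
    (hnorm : Subgroup.normalizer ((S.subgroupOf H : Subgroup H) : Set H) ≤ S.subgroupOf H)
    (hfus : ∀ T : Subgroup (Equiv.Perm GolayPt), T ≤ S → T ≠ ⊥ →
      (∀ x ∈ T, ∀ g ∈ H, g * x * g⁻¹ ∈ S → g * x * g⁻¹ ∈ T) → S ≤ T)
    (P : Sylow 2 H) : (groupFusionSystem (P : Subgroup H)).IsSimple 2 := by
  have hcard : Nat.card (S.subgroupOf H) = 2 ^ k := by
    rw [Nat.card_congr (Subgroup.subgroupOfEquivOfLe hSH).toEquiv, hk]
  apply isSimple_of_subgroup (S.subgroupOf H) (by rw [hcard, hfac])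
  · intro hbot
    rw [hbot, Subgroup.card_bot] at hcard
    have : 2 ≤ 2 ^ k := by
      calc 2 = 2 ^ 1 := rfl
        _ ≤ 2 ^ k := Nat.pow_le_pow_right (by norm_num) (Nat.one_le_iff_ne_zero.mpr hk0)
    omega
  · exact hnorm
  · intro T hT hTne hcl
    apply le_antisymm hT
    have h1 : T.map H.subtype ≤ S := by
      rintro _ ⟨x, hx, rfl⟩
      exact Subgroup.mem_subgroupOf.mp (hT hx)
    have h2 : T.map H.subtype ≠ ⊥ := by
      intro hbot
      apply hTne
      rw [Subgroup.eq_bot_iff_forall] at hbot ⊢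
      intro x hx
      have := hbot _ ⟨x, hx, rfl⟩
      exact Subtype.ext this
    have h3 : ∀ x ∈ T.map H.subtype, ∀ g ∈ H, g * x * g⁻¹ ∈ S → g * x * g⁻¹ ∈ T.map H.subtype := by
      rintro _ ⟨x, hx, rfl⟩ g hg hS
      have := hcl x hx ⟨g, hg⟩ (by rw [Subgroup.mem_subgroupOf]; simpa using hS)
      exact ⟨_, this, by simp⟩
    have h4 := hfus _ h1 h2 h3
    intro y hy
    obtain ⟨t, ht, hty⟩ := h4 (Subgroup.mem_subgroupOf.mp hy)
    have : t = y := Subtype.ext hty
    rw [← this]; exact ht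

end Bridge

/-! ### the normalizer via the centralizer of the central involution -/

section Norm

theorem normalizer_le_of_card {G : Type*} [Group G] [Finite G] (S C : Subgroup G) {k r : ℕ}
    (hS : Nat.card S = 2 ^ k) (hG : Nat.card G = 2 ^ k * r) (hr : Odd r)
    (hNC : Subgroup.normalizer (S : Set G) ≤ C) (hC : Nat.card C ≤ 3 * 2 ^ k)
    (c : G) (hc : c ∈ C) (hcn : c ∉ Subgroup.normalizer (S : Set G)) :
    Subgroup.normalizer (S : Set G) ≤ S := by
  set N := Subgroup.normalizer (S : Set G) with hN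
  have hSN : S ≤ N := Subgroup.le_normalizer
  obtain ⟨j, hj⟩ := Subgroup.card_dvd_of_le hSN
  rw [hS] at hj
  have hNG : Nat.card N ∣ Nat.card G := Subgroup.card_subgroup_dvd_card N
  have hNC' : Nat.card N ≤ Nat.card C := Subgroup.card_le_of_le hNC
  have hpos : 0 < 2 ^ k := by positivity
  have hj3 : j ≤ 3 := by
    have : 2 ^ k * j ≤ 3 * 2 ^ k := by rw [← hj]; exact hNC'.trans hC
    by_contra hcon
    rw [not_le] at hcon
    have : 2 ^ k * 4 ≤ 2 ^ k * j := Nat.mul_le_mul_left _ hcon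
    nlinarith
  have hjr : j ∣ r := by
    rw [hj, hG] at hNG
    exact (Nat.mul_dvd_mul_iff_left hpos).mp hNG
  have hjodd : Odd j := by
    obtain ⟨m, hm⟩ := hjr
    rcases Nat.even_or_odd j with he | ho
    · exfalso
      rw [hm] at hr
      exact (Nat.not_even_iff_odd.mpr hr) (he.mul_right m)
    · exact ho
  have hj13 : j = 1 ∨ j = 3 := by
    obtain ⟨m, hm⟩ := hjodd
    omega
  rcases hj13 with h1 | h3
  · rw [h1, mul_one] at hj
    have : S = N := Subgroup.eq_of_le_of_card_ge hSN (by rw [hj, hS])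
    rw [← this]
  · exfalso
    apply hcn
    have hge : Nat.card C ≤ Nat.card N := by rw [hj, h3]; linarith
    have : N = C := Subgroup.eq_of_le_of_card_ge hNC hge
    rw [this]; exact hc

end Norm

end Cfsg.Agent.Lib.Helper3.Fus
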