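import Mathlib
import Cfsg.Prelude.Def_Sporadic_a
import Cfsg.Agent.Lib.Helper3.Fus.Cert

set_option autoImplicit false

/-! The normalizer of a Sylow 2-subgroup via the centralizer of its central involution: a list
of distinct conjugates of the involution bounds the centralizer. -/

namespace Cfsg.Agent.Lib.Helper3.Fus

open Cfsg Cfsg.Agent.Lib.Helper3.Golay

theorem card_centralizer_mul {G : Type*} [Group G] [Finite G] (z : G) :
    Nat.card (Subgroup.centralizer {z}) * (MulAction.orbit (ConjAct G) z).ncard = Nat.card G := by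
  rw [← MulAction.index_stabilizer]
  have e : Nat.card (Subgroup.centralizer {z}) = Nat.card (MulAction.stabilizer (ConjAct G) z) := by
    apply Nat.card_congr
    refine ⟨fun g => ⟨ConjAct.toConjAct g.1, ?_⟩, fun g => ⟨ConjAct.ofConjAct g.1, ?_⟩,
      fun g => rfl, fun g => rfl⟩
    · rw [MulAction.mem_stabilizer_iff, ConjAct.toConjAct_smul]
      have := Subgroup.mem_centralizer_singleton_iff.mp g.2
      rw [this]; group
    · rw [Subgroup.mem_centralizer_singleton_iff]
      have := MulAction.mem_stabilizer_iff.mp g.2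
      rw [ConjAct.smul_def] at this
      calc ConjAct.ofConjAct g.1 * z
          = (ConjAct.ofConjAct g.1 * z * (ConjAct.ofConjAct g.1)⁻¹) * ConjAct.ofConjAct g.1 := by
            group
        _ = z * ConjAct.ofConjAct g.1 := by rw [this]
  rw [e, Subgroup.card_mul_index]
  exact Nat.card_congr ConjAct.ofConjAct.toEquiv

theorem le_orbit_ncard {G : Type*} [Group G] [Finite G] (z : G) (f : G → ℕ)
    (D : List ℕ) (hD : D.Nodup) (h : ∀ n ∈ D, ∃ g : G, f (g * z * g⁻¹) = n) :
    D.length ≤ (MulAction.orbit (ConjAct G) z).ncard := by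
  have h1 : (D.toFinset : Set ℕ) ⊆ f '' (MulAction.orbit (ConjAct G) z) := by
    intro n hn
    have hn' : n ∈ D := by simpa using hn
    obtain ⟨g, rfl⟩ := h n hn'
    refine ⟨g * z * g⁻¹, ?_, rfl⟩
    exact ⟨ConjAct.toConjAct g, by show ConjAct.toConjAct g • z = _; rw [ConjAct.toConjAct_smul]⟩
  have h2 := Set.ncard_le_ncard h1 (Set.toFinite _)
  rw [Set.ncard_coe_finset, List.toFinset_card_of_nodup hD] at h2
  exact h2.trans (Set.ncard_image_le (Set.toFinite _))

/-- data and checks bounding the centralizer of the central involution and exhibiting an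
element of it outside the normalizer -/
structure NormCert (H : Subgroup (Equiv.Perm GolayPt)) (D : SylCert H) where
  /-- generators of `H` -/
  hs : List (ℕ × ℕ)
  /-- the class program -/
  cprog : List (ℕ × ℕ)
  /-- the list of conjugates -/
  cls : List ℕ
  /-- an element of the centralizer -/
  c : ℕ × ℕ
  /-- a generator not conjugated into the subgroup -/
  u : ℕ
  hhs : CSound H hs
  hc : CSound H [c]
  hcls : crun hs D.z cprog = cls
  nodup : cls.Nodup
  hu : u ∈ D.us
  hz1 : D.z ≠ idN
  zcentOK : D.us.all (fun u => Nat.beq (compN D.z u) (compN u D.z)) = true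
  commOK : compN c.1 D.z = compN D.z c.1
  notinOK : memB (compN (compN c.1 u) c.2) D.L = false

theorem NormCert.normalizer_le {H : Subgroup (Equiv.Perm GolayPt)} {D : SylCert H}
    (N : NormCert H D) {r : ℕ} (hH : Nat.card H = 2 ^ D.us.length * r) (hr : Odd r)
    (hcount : r ≤ 3 * N.cls.length) :
    Subgroup.normalizer ((D.S.subgroupOf H : Subgroup H) : Set H) ≤ D.S.subgroupOf H := by
  obtain ⟨z₀, hz₀S, hz₀c⟩ := D.exists_z
  have hz₀1 : z₀ ≠ 1 := by
    intro h
    apply N.hz1
    rw [← hz₀c, h, codeOf_one]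
  -- `z₀` is central
  have hzc : ∀ τ ∈ D.S, z₀ * τ = τ * z₀ := by
    have : D.S ≤ Subgroup.centralizer {z₀} := by
      unfold SylCert.S
      rw [Subgroup.closure_le]
      intro σ hσ
      have h := N.zcentOK
      rw [List.all_eq_true] at h
      have h' := Nat.eq_of_beq_eq_true (h _ hσ.2)
      rw [← hz₀c, ← codeOf_mul, ← codeOf_mul] at h'
      have := codeOf_injective h'
      show σ ∈ Subgroup.centralizer {z₀}
      rw [Subgroup.mem_centralizer_singleton_iff]
      exact this.symm
    intro τ hτ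
    have := Subgroup.mem_centralizer_singleton_iff.mp (this hτ)
    exact this.symm
  let z' : H := ⟨z₀, D.S_le hz₀S⟩
  have hS : Nat.card (D.S.subgroupOf H) = 2 ^ D.us.length := by
    rw [Nat.card_congr (Subgroup.subgroupOfEquivOfLe D.S_le).toEquiv, D.card]
  have hNC : Subgroup.normalizer ((D.S.subgroupOf H : Subgroup H) : Set H) ≤
      Subgroup.centralizer {z'} := by
    intro n hn
    rw [Subgroup.mem_normalizer_iff] at hn
    rw [Subgroup.mem_centralizer_singleton_iff]
    have hw : (n : Equiv.Perm GolayPt) * z₀ * (n : Equiv.Perm GolayPt)⁻¹ ∈ D.S := by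
      have := (hn z').mp (by rw [Subgroup.mem_subgroupOf]; exact hz₀S)
      rw [Subgroup.mem_subgroupOf] at this
      simpa using this
    have hwc : ∀ τ ∈ D.S, ((n : Equiv.Perm GolayPt) * z₀ * (n : Equiv.Perm GolayPt)⁻¹) * τ =
        τ * ((n : Equiv.Perm GolayPt) * z₀ * (n : Equiv.Perm GolayPt)⁻¹) := by
      intro τ hτ
      have hτ' : (n : Equiv.Perm GolayPt)⁻¹ * τ * n ∈ D.S := by
        have hmem : (n : Equiv.Perm GolayPt)⁻¹ * τ * n ∈ H :=
          H.mul_mem (H.mul_mem (H.inv_mem n.2) (D.S_le hτ)) n.2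
        have := (hn ⟨_, hmem⟩).mpr (by
          rw [Subgroup.mem_subgroupOf]
          have e : ((n * ⟨_, hmem⟩ * n⁻¹ : H) : Equiv.Perm GolayPt) = τ := by
            show (n : Equiv.Perm GolayPt) * ((n : Equiv.Perm GolayPt)⁻¹ * τ * n) *
              (n : Equiv.Perm GolayPt)⁻¹ = τ
            group
          rw [e]; exact hτ)
        rw [Subgroup.mem_subgroupOf] at this
        exact this
      have h1 := hzc _ hτ'
      calc (n : Equiv.Perm GolayPt) * z₀ * (n : Equiv.Perm GolayPt)⁻¹ * τ
          = n * (z₀ * ((n : Equiv.Perm GolayPt)⁻¹ * τ * n)) * (n : Equiv.Perm GolayPt)⁻¹ := by group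
        _ = n * (((n : Equiv.Perm GolayPt)⁻¹ * τ * n) * z₀) * (n : Equiv.Perm GolayPt)⁻¹ := by rw [h1]
        _ = τ * ((n : Equiv.Perm GolayPt) * z₀ * (n : Equiv.Perm GolayPt)⁻¹) := by group
    have key : (n : Equiv.Perm GolayPt) * z₀ * (n : Equiv.Perm GolayPt)⁻¹ = z₀ := by
      rcases D.center hw hwc with h | h
      · exfalso
        apply hz₀1
        have : z₀ = (n : Equiv.Perm GolayPt)⁻¹ * ((n : Equiv.Perm GolayPt) * z₀ *
            (n : Equiv.Perm GolayPt)⁻¹) * n := by group
        rw [this, h]; group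
      · exact codeOf_injective (h.trans hz₀c.symm)
    apply Subtype.ext
    show (n : Equiv.Perm GolayPt) * z₀ = z₀ * n
    calc (n : Equiv.Perm GolayPt) * z₀ = ((n : Equiv.Perm GolayPt) * z₀ * (n : Equiv.Perm GolayPt)⁻¹) * n := by
          group
      _ = z₀ * n := by rw [key]
  have hC : Nat.card (Subgroup.centralizer {z'}) ≤ 3 * 2 ^ D.us.length := by
    have h1 := card_centralizer_mul z'
    have h2 : N.cls.length ≤ (MulAction.orbit (ConjAct H) z').ncard := by
      apply le_orbit_ncard z' (fun g => codeOf g.1) N.cls N.nodup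
      intro n hn
      rw [← N.hcls, ← hz₀c] at hn
      obtain ⟨g, hg, hgn⟩ := crun_sound N.hhs z₀ N.cprog n hn
      exact ⟨⟨g, hg⟩, hgn⟩
    rw [hH] at h1
    have hpos : 0 < N.cls.length := by
      obtain ⟨m, hm⟩ := hr
      omega
    have h3 : Nat.card (Subgroup.centralizer {z'}) * N.cls.length ≤
        3 * 2 ^ D.us.length * N.cls.length := by
      calc Nat.card (Subgroup.centralizer {z'}) * N.cls.length
          ≤ Nat.card (Subgroup.centralizer {z'}) * (MulAction.orbit (ConjAct H) z').ncard :=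
            Nat.mul_le_mul_left _ h2
        _ = 2 ^ D.us.length * r := h1
        _ ≤ 2 ^ D.us.length * (3 * N.cls.length) := Nat.mul_le_mul_left _ hcount
        _ = 3 * 2 ^ D.us.length * N.cls.length := by ring
    exact Nat.le_of_mul_le_mul_right h3 hpos
  obtain ⟨cσ, hcH, hc1, hc2⟩ := N.hc N.c (by simp)
  obtain ⟨uσ, huS, huc⟩ := D.of_mem_us N.hu
  apply normalizer_le_of_card (D.S.subgroupOf H) (Subgroup.centralizer {z'}) hS hH hr hNC hC
    ⟨cσ, hcH⟩
  · rw [Subgroup.mem_centralizer_singleton_iff]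
    apply Subtype.ext
    show cσ * z₀ = z₀ * cσ
    apply codeOf_injective
    rw [codeOf_mul, codeOf_mul, hc1, hz₀c, N.commOK]
  · intro hcn
    rw [Subgroup.mem_normalizer_iff] at hcn
    have := (hcn ⟨uσ, D.S_le huS⟩).mp (by rw [Subgroup.mem_subgroupOf]; exact huS)
    rw [Subgroup.mem_subgroupOf] at this
    have h1 : cσ * uσ * cσ⁻¹ ∈ D.S := by simpa using this
    have h2 := D.mem_L h1
    rw [codeOf_conj, hc1, hc2, huc] at h2
    have h3 := N.notinOK
    have : memB (compN (compN N.c.1 N.u) N.c.2) D.L = true := memB_iff.mpr h2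
    rw [h3] at this
    exact Bool.noConfusion this

end Cfsg.Agent.Lib.Helper3.Fus
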