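import Mathlib
import Cfsg.Prelude.Def_Spor_Mathieu
import Cfsg.Agent.Lib.Helper3.Fus.Norm
import Cfsg.Agent.Lib.Helper3.OutAut.Dod
import Cfsg.Agent.Lib.Helper3.OutAut.M22
import Cfsg.Agent.Lib.Helper3.OutAut.M23
import Cfsg.Agent.Lib.Helper3.Golay.M24Order

set_option autoImplicit false

/-! Membership checks for tables in the five Mathieu groups. -/

namespace Cfsg.Agent.Lib.Helper3.Fus

open Cfsg Cfsg.Agent.Lib.Helper3.Golay Cfsg.Agent.Lib.Helper3.OutAut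
open scoped Pointwise

theorem tblOK_sound' {d : ℕ} {T : List ℕ} (h : tblOK d T = true) :
    ∃ σ ∈ M24 ⊓ MulAction.stabilizer (Equiv.Perm GolayPt) (bitSet d),
      HasTbl σ T ∧ HasTbl σ⁻¹ (invT T) := by
  obtain ⟨σ, hσ, hT⟩ := tblOK_sound h
  refine ⟨σ, hσ, hT, ?_⟩
  unfold tblOK at h
  simp only [Bool.and_eq_true] at h
  exact hT.inv h.1.1.1

theorem pt23 : pt 23 = (none : GolayPt) := by decide +kernel

/-- membership checks -/
def memOK24 (T : List ℕ) : Bool := tblOK 0 T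
def memOK23 (T : List ℕ) : Bool := tblOK 0 T && Nat.beq (T.getD 23 0) 23
def memOK22 (T : List ℕ) : Bool := tblOK 0 T && Nat.beq (T.getD 23 0) 23 && Nat.beq (T.getD 0 0) 0
def memOK12 (T : List ℕ) : Bool := tblOK d0 T
def memOK11 (T : List ℕ) : Bool := tblOK d0 T && Nat.beq (T.getD 0 0) 0

theorem tsound24 {Ts : List (List ℕ)} (h : Ts.all memOK24 = true) : TSound M24 Ts := by
  intro T hT
  rw [List.all_eq_true] at h
  obtain ⟨σ, hσ, h1, h2⟩ := tblOK_sound' (h T hT)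
  exact ⟨σ, (Subgroup.mem_inf.mp hσ).1, h1, h2⟩

theorem mem_M23_iff {σ : Equiv.Perm GolayPt} : σ ∈ Cfsg.Spor.M23 ↔ σ ∈ M24 ∧ σ (pt 23) = pt 23 := by
  unfold Cfsg.Spor.M23
  rw [Subgroup.mem_inf, MulAction.mem_stabilizer_iff, pt23]
  rfl

theorem mem_M22_iff {σ : Equiv.Perm GolayPt} :
    σ ∈ Cfsg.Spor.M22 ↔ σ ∈ Cfsg.Spor.M23 ∧ σ (pt 0) = pt 0 := by
  unfold Cfsg.Spor.M22
  rw [Subgroup.mem_inf, MulAction.mem_stabilizer_iff, pt0]
  rfl

theorem tsound23 {Ts : List (List ℕ)} (h : Ts.all memOK23 = true) : TSound Cfsg.Spor.M23 Ts := by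
  intro T hT
  rw [List.all_eq_true] at h
  have h' := h T hT
  unfold memOK23 at h'
  rw [Bool.and_eq_true] at h'
  obtain ⟨σ, hσ, h1, h2⟩ := tblOK_sound' h'.1
  exact ⟨σ, mem_M23_iff.mpr ⟨(Subgroup.mem_inf.mp hσ).1,
    fixes_pt h1 (by norm_num) (Nat.eq_of_beq_eq_true h'.2)⟩, h1, h2⟩

theorem tsound22 {Ts : List (List ℕ)} (h : Ts.all memOK22 = true) : TSound Cfsg.Spor.M22 Ts := by
  intro T hT
  rw [List.all_eq_true] at h
  have h' := h T hT
  unfold memOK22 at h'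
  rw [Bool.and_eq_true, Bool.and_eq_true] at h'
  obtain ⟨σ, hσ, h1, h2⟩ := tblOK_sound' h'.1.1
  exact ⟨σ, mem_M22_iff.mpr ⟨mem_M23_iff.mpr ⟨(Subgroup.mem_inf.mp hσ).1,
    fixes_pt h1 (by norm_num) (Nat.eq_of_beq_eq_true h'.1.2)⟩,
    fixes_pt h1 (by norm_num) (Nat.eq_of_beq_eq_true h'.2)⟩, h1, h2⟩

theorem tsound12 {Ts : List (List ℕ)} (h : Ts.all memOK12 = true) : TSound Cfsg.Spor.M12 Ts := by
  intro T hT
  rw [List.all_eq_true] at h
  obtain ⟨σ, hσ, h1, h2⟩ := tblOK_sound' (h T hT)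
  rw [M12_eq]
  exact ⟨σ, hσ, h1, h2⟩

theorem tsound11 {Ts : List (List ℕ)} (h : Ts.all memOK11 = true) : TSound Cfsg.Spor.M11 Ts := by
  intro T hT
  rw [List.all_eq_true] at h
  have h' := h T hT
  unfold memOK11 at h'
  rw [Bool.and_eq_true] at h'
  obtain ⟨σ, hσ, h1, h2⟩ := tblOK_sound' h'.1
  rw [M11_eq]
  exact ⟨σ, Subgroup.mem_inf.mpr ⟨hσ, by
    rw [MulAction.mem_stabilizer_iff]
    exact fixes_pt h1 (by norm_num) (Nat.eq_of_beq_eq_true h'.2)⟩, h1, h2⟩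

theorem factorization_two_eq {n k r : ℕ} (hn : n = 2 ^ k * r) (hr : Odd r) :
    n.factorization 2 = k := by
  have hr0 : r ≠ 0 := by
    rintro rfl
    exact (Nat.not_odd_iff_even.mpr (by decide : Even 0)) hr
  have h0 : r.factorization 2 = 0 := Nat.factorization_eq_zero_of_not_dvd (fun h2 =>
    (Nat.not_even_iff_odd.mpr hr) (even_iff_two_dvd.mpr h2))
  rw [hn, Nat.factorization_mul (by positivity) hr0, Nat.Prime.factorization_pow Nat.prime_two]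
  simp [h0]

end Cfsg.Agent.Lib.Helper3.Fus
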