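import Mathlib
import Cfsg.Prelude.Def_Spor_Mathieu
import Cfsg.Agent.Lib.Helper3.Fus.M22Data
import Cfsg.Agent.Lib.Helper3.Fus.M23Data

set_option autoImplicit false

/-! The Sylow 2-subgroup of `M22` is a self-normalizing Sylow 2-subgroup of `M23`: its only
fixed points are the two points defining `M22`, so its normalizer in `M23` lies in `M22`. -/

namespace Cfsg.Agent.Lib.Helper3.FusM23

open Cfsg Cfsg.Agent.Lib.Helper3.Golay Cfsg.Agent.Lib.Helper3.Fus
  Cfsg.Agent.Lib.Helper3.OutAut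

theorem us_eq : FusM23.usN = FusM22.usN := by decide +kernel

theorem M22_le_M23 : Cfsg.Spor.M22 ≤ Cfsg.Spor.M23 := fun _ h => (mem_M22_iff.mp h).1

theorem S_eq : FusM23.D.S = FusM22.D.S := by
  unfold SylCert.S
  congr 1
  ext σ
  constructor
  · rintro ⟨-, h2⟩
    have h2' : codeOf σ ∈ FusM22.usN := by rw [← us_eq]; exact h2
    obtain ⟨τ, hτ, hτc⟩ := FusM22.D.hus _ h2'
    have : τ = σ := codeOf_injective hτc
    exact ⟨this ▸ hτ, h2'⟩
  · rintro ⟨h1, h2⟩
    refine ⟨M22_le_M23 h1, ?_⟩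
    show codeOf σ ∈ FusM23.usN
    rw [us_eq]; exact h2

theorem card_M22' : Nat.card Cfsg.Spor.M22 = 2 ^ FusM22.D.us.length * 3465 := by
  rw [OutM22.card_M22]; decide

theorem norm22 : ∀ n ∈ Cfsg.Spor.M22, (∀ y, y ∈ FusM22.D.S ↔ n * y * n⁻¹ ∈ FusM22.D.S) →
    n ∈ FusM22.D.S :=
  of_normalizer_subgroupOf_le
    (FusM22.N.normalizer_le card_M22' (by decide) (by decide +kernel))

theorem cert_fix : allBelow 24 (fun i => Nat.beq i 0 || Nat.beq i 23 ||
    FusM22.usN.any (fun u => !(Nat.beq (lookN u i) i))) = true := by decide +kernel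

theorem norm23 : ∀ n ∈ Cfsg.Spor.M23, (∀ y, y ∈ FusM23.D.S ↔ n * y * n⁻¹ ∈ FusM23.D.S) →
    n ∈ FusM23.D.S := by
  rw [S_eq]
  intro n hn hiff
  apply norm22 n _ hiff
  rw [mem_M22_iff]
  refine ⟨hn, ?_⟩
  -- every element of `S` fixes `n (pt 0)`
  have hfix : ∀ s ∈ FusM22.D.S, s (n (pt 0)) = n (pt 0) := by
    intro s hs
    have h1 : n⁻¹ * s * n ∈ FusM22.D.S := by
      rw [hiff]
      have e : n * (n⁻¹ * s * n) * n⁻¹ = s := by group
      rw [e]; exact hs
    have h2 : (n⁻¹ * s * n) (pt 0) = pt 0 := (mem_M22_iff.mp (FusM22.D.S_le h1)).2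
    have h3 : s (n (pt 0)) = n ((n⁻¹ * s * n) (pt 0)) := by
      simp [Equiv.Perm.mul_apply]
    rw [h3, h2]
  have hi := idx_lt (n (pt 0))
  have hc := cert_fix
  rw [allBelow_iff] at hc
  have hc' := hc _ hi
  rw [Bool.or_eq_true, Bool.or_eq_true] at hc'
  rcases hc' with (h0 | h23) | hany
  · have := Nat.eq_of_beq_eq_true h0
    rw [← pt_idx (n (pt 0)), this]
  · exfalso
    have h23' := Nat.eq_of_beq_eq_true h23
    have h1 : n (pt 0) = pt 23 := by rw [← pt_idx (n (pt 0)), h23']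
    have h2 : n (pt 23) = pt 23 := (mem_M23_iff.mp hn).2
    have h3 : pt 0 = pt 23 := n.injective (h1.trans h2.symm)
    have := congrArg idx h3
    rw [idx_pt (by norm_num), idx_pt (by norm_num)] at this
    omega
  · exfalso
    rw [List.any_eq_true] at hany
    obtain ⟨u, hu, hne⟩ := hany
    obtain ⟨σ, hσ, hσc⟩ := FusM22.D.of_mem_us hu
    have h1 := hfix σ hσ
    rw [← pt_idx (n (pt 0)), apply_of_codeOf σ hi, hσc] at h1
    have h2 := congrArg idx h1
    have hlt : lookN u (idx (n (pt 0))) < 24 := by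
      rw [← hσc]; exact (hasN_codeOf σ).lt hi
    rw [idx_pt hlt, idx_pt hi] at h2
    rw [h2, Nat.beq_refl] at hne
    exact Bool.noConfusion hne

end Cfsg.Agent.Lib.Helper3.FusM23
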